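import Cfsg.Agent.CosetCert.J4M24KMem.CheckLog
import Cfsg.Agent.CosetCert.Member

/-! Generated: the conclusion. -/

set_option maxRecDepth 100000

namespace Cfsg.Agent.CosetCert.J4M24KMem

theorem mem_valid : data.MemValid where
  log := log_ok
  iv_iv := by decide +kernel
  iv_big := fun x hx => by
    change 6 ≤ x at hx
    show (if x < 3 then x + 3 else if x < 6 then x - 3 else x) = x
    split_ifs <;> omega
  pw := by decide +kernel
  letters := by decide +kernel
  K_small := by decide +kernel
  nR_le := by decide +kernel

theorem spells : Data.Spells data (wordRels relWords) (subWords.map FreeGroup.mk) enc dec relWords := by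
  apply spells_words_extra data
  · show ∀ b : Fin 3, _
    decide +kernel
  · decide +kernel
  · intro x hx
    left
    revert x
    decide +kernel
  · decide +kernel
  · decide +kernel

/-- The words shown to be relations. -/
def targets : List (List (Fin 3 × Bool)) := [
    [(0, true), (0, true), (1, false), (0, false), (1, false), (0, false), (1, false), (0, false), (1, false), (0, false), (1, false)],
    [(0, true), (1, true), (0, true), (1, true), (0, true), (1, true), (0, true), (1, true), (0, true), (1, false), (1, false)],
    [(0, true), (0, true), (1, false), (0, false), (1, false), (0, false), (1, true), (1, true), (0, false), (1, false), (0, false), (1, false)],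
    [(0, true), (1, true), (0, false), (1, true), (0, true), (1, true), (0, false), (1, false), (0, true), (1, true), (0, false), (1, true), (0, true), (1, true), (0, false), (1, false)],
    [(0, true), (1, true), (0, false), (1, true), (0, true), (1, false), (0, false), (1, true), (0, true), (1, true), (0, false), (1, true), (0, true), (1, false), (0, false), (1, true)]]

/-- The paths of the targets in the log. -/
def paths : List (Nat × Nat) := [
    (11, 0xb2960000c0000790001ec0007d0001fc0008100020c0b2a700000800000),
    (11, 0xb29602d5d000014000048000100000380000c0000280000800001800000),
    (12, 0x2ca58000300001e40007b039cb80b6260001fc0008100020c0b2a700000800000),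
    (16, 0x2ca58000300010a40c424030b680c30c0384800e12604ffa00b826000428001080004180b2b900001800000),
    (16, 0x2ca480b2940000700b34200360c00d8504bbf8029dd04c40000f6502e0d4001080004180b2b900001800000)]

theorem walks_ok : (List.zip targets paths).all (fun p => Nat.beq
    (walk data.F data.iv data.K data.Nf p.2.1 p.2.2 0 (pack (p.1.map (Data.code data.iv enc))))
    (stop 0 0)) = true := by decide +kernel

theorem targets_len : targets.length = paths.length := rfl

theorem target_one : ∀ l ∈ targets, PresentedGroup.mk (wordRels relWords) (FreeGroup.mk l) = 1 := by
  intro l hl
  obtain ⟨i, hi, rfl⟩ := List.mem_iff_getElem.1 hl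
  have hm : (targets[i], paths[i]'(targets_len ▸ hi)) ∈ List.zip targets paths := by
    rw [List.mem_iff_getElem]
    exact ⟨i, by simpa [← targets_len] using hi, by simp⟩
  have h := List.all_eq_true.1 walks_ok _ hm
  rw [Nat.beq_eq] at h
  have h' := Data.mem_sub_of_path mem_valid spells _ _ _ h
  simpa [Data.sub, subWords] using h'

end Cfsg.Agent.CosetCert.J4M24KMem
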